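import Groth.Agent.GenusZeroLib.PointDown
import Groth.Agent.GenusZeroLib.Degrees
import Groth.Agent.SerreVanLib.CurveAmple
import Groth.Agent.RRVanLib.GG
import Groth.Agent.VeryAmpleLib.Bc
import Groth.Agent.HilbPolyLib.Twist
import Groth.Agent.S7596
import Groth.Agent.AbSchLib.Flat
import Groth.Agent.KFlatLib.AffinePull
import Groth.Agent.AmpleLib.Gen
import Groth.Agent.CurveVBLib.Integral
import Groth.Agent.NormalLib.Regular

/-!
# Twisting line bundles on `X_K` by bundles defined over a separably closed field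
-/

set_option autoImplicit false
set_option linter.style.haveILetI false
set_option maxHeartbeats 1000000
universe u

open CategoryTheory CategoryTheory.Limits AlgebraicGeometry TopologicalSpace Opposite
open AmpleLib (GenAt GenOn res shT)
open KFlatLib (pb puSec tens)

noncomputable section

namespace CurveBCLib

theorem shT_smul {X : Scheme.{u}} {M N : X.Modules} {W : X.Opens} (c : Γ(X, W)) (m : Γ(M, W)) (n : Γ(N, W)) :
    (shT m (c • n) : Γ(CohB1.tensorMod M N, W)) = c • shT m n := by
  refine (congrArg (KFlatLib.shApp M N W) (TensorProduct.tmul_smul (R := X.presheaf.obj (op W)) c m n)).trans ?_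
  exact ((((PresheafOfModules.sheafificationAdjunction.{u} (R := X.ringCatSheaf) (𝟙 X.ringCatSheaf.obj)).unit.app
    (KFlatLib.pT M N : X.PresheafOfModules)).app (op W))).hom.map_smul c _

theorem genAt_ne_zero {X : Scheme.{u}} {M : X.Modules} {W : X.Opens} {σ : Γ(M, W)} {x : X} {hx : x ∈ W}
    (h : GenAt M σ hx) : σ ≠ 0 := fun h0 =>
  one_ne_zero (h.1 (a₁ := (1 : X.presheaf.stalk x)) (a₂ := 0) (by
    dsimp only
    rw [h0, map_zero, smul_zero, smul_zero]))

/-- The image of a morphism into `M ⊗ P` induced by `ψ : N ⟶ P` avoids generators where `ψ` does. -/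
theorem not_genAt_whisker {X : Scheme.{u}} (M : X.Modules) (hM : PicF.IsInvertible M) {N P : X.Modules}
    (ψ : N ⟶ P) {x : X} {W : X.Opens} (hx : x ∈ W) {n : Γ(N, W)} (hn : GenOn N n) {o : Γ(P, W)}
    (ho : GenAt P o hx) {c : Γ(X, W)} (hc : ¬ x ∈ X.basicOpen c) (hψ : ψ.app W n = c • o)
    (σ : Γ(CohB1.tensorMod M N, ⊤)) :
    ¬ GenAt (CohB1.tensorMod M P)
      ((((DCoh.tensorBi (X := X)).obj M).map ψ).app ⊤ σ) (show x ∈ (⊤ : X.Opens) from trivial) := by
  obtain ⟨U, e, hxU, he⟩ := TwistLib.exists_genOn hM x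
  have hW' : x ∈ U ⊓ W := ⟨hxU, hx⟩
  have hen : GenAt (CohB1.tensorMod M N) (shT (res M inf_le_left e) (res N inf_le_right n)) hW' :=
    ((he.res inf_le_left).genAt hW').tensor ((hn.res inf_le_right).genAt hW')
  intro h
  let φ := ((DCoh.tensorBi (X := X)).obj M).map ψ
  let F := ((DerSch.stalkFunctor X x).map φ).hom
  obtain ⟨a, ha⟩ := hen.2 ((CohB1.tensorMod M N).presheaf.germ ⊤ x trivial σ)
  let c' : Γ(X, U ⊓ W) := X.presheaf.map (homOfLE (inf_le_right : U ⊓ W ≤ W)).op c
  have h1 : φ.app (U ⊓ W) (shT (res M inf_le_left e) (res N inf_le_right n)) =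
      c' • shT (res M inf_le_left e) (res P inf_le_right o) := by
    refine (KFlatLib.tensorBi_map₂_shTm M ψ _ _).trans ?_
    rw [← shT_smul, ← AmpleLib.res_smul, ← hψ]
    exact congrArg (shT (res M inf_le_left e)) (PresheafOfModules.naturality_apply ψ.val (homOfLE (inf_le_right : U ⊓ W ≤ W)).op n)
  have hg : GenAt (CohB1.tensorMod M P) (shT (res M inf_le_left e) (res P inf_le_right o)) hW' :=
    ((he.res inf_le_left).genAt hW').tensor ((AmpleLib.genAt_res _ o hW').2 ho)
  have key : (CohB1.tensorMod M P).presheaf.germ ⊤ x trivial (φ.app ⊤ σ) =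
      (a * X.presheaf.germ _ x hW' c') •
        (CohB1.tensorMod M P).presheaf.germ _ x hW' (shT (res M inf_le_left e) (res P inf_le_right o)) := by
    refine (DerSch.stalkFunctor_map_germ x φ ⊤ trivial σ).symm.trans ?_
    refine (congrArg F ha.symm).trans ?_
    refine (F.map_smul a _).trans ?_
    refine (congrArg (a • ·) ((DerSch.stalkFunctor_map_germ x φ _ hW' _).trans
      ((congrArg _ h1).trans (AmpleLib.germ_smul _ _ _ hW')))).trans ?_
    exact smul_smul _ _ _
  obtain ⟨b, hb⟩ := h.2 ((CohB1.tensorMod M P).presheaf.germ _ x hW' (shT (res M inf_le_left e) (res P inf_le_right o)))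
  dsimp only at hb
  rw [key, smul_smul] at hb
  refine hc ((Scheme.mem_basicOpen X c x hx).2 ?_)
  rw [← TopCat.Presheaf.germ_res_apply X.presheaf (homOfLE (inf_le_right : U ⊓ W ≤ W)) x hW' c]
  exact isUnit_of_mul_isUnit_right (isUnit_of_mul_isUnit_right
    (IsUnit.of_mul_eq_one _ (show _ * (1 : X.presheaf.stalk x) = 1 by
      rw [mul_one]; exact hg.1 (hb.trans (one_smul _ _).symm))))

variable {k : Type u} [Field k] {X : Scheme.{u}} [X.Over (Spec (CommRingCat.of k))]
  {K : Type u} [Field K] [Algebra k K] {XK : Scheme.{u}} [XK.Over (Spec (CommRingCat.of K))] {g : XK ⟶ X}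

theorem finrank_HH_sq [IsProper (X ↘ Spec (CommRingCat.of k))]
    (hpb : IsPullback g (XK ↘ Spec (CommRingCat.of K)) (X ↘ Spec (CommRingCat.of k))
      (Spec.map (CommRingCat.ofHom (algebraMap k K)))) {F : X.Modules} (hF : Coh.IsQCoh F) (i : ℕ) :
    Module.finrank K (Coh.HH XK (pb g F) i) = Module.finrank k (Coh.HH X F i) := by
  haveI := CurvLib.isNoetherian k (X := X)
  obtain ⟨e⟩ := RpushLib.nonempty_affBase_bc (A := k) (B := K) (g' := g)
    (f' := XK ↘ Spec (CommRingCat.of K)) (f := X ↘ Spec (CommRingCat.of k)) hpb F i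
  exact e.finrank_eq.symm.trans (Module.finrank_baseChange (R := K) (S := k) (M' := Coh.HH X F i))

theorem euler_sq [IsProper (X ↘ Spec (CommRingCat.of k))]
    (hpb : IsPullback g (XK ↘ Spec (CommRingCat.of K)) (X ↘ Spec (CommRingCat.of k))
      (Spec.map (CommRingCat.ofHom (algebraMap k K)))) {F : X.Modules} (hF : Coh.IsQCoh F) :
    Curv2.euler K XK (pb g F) = Curv2.euler k X F := by
  unfold Curv2.euler
  exact finsum_congr fun i => by rw [finrank_HH_sq hpb hF i]

theorem deg_sq [IsProper (X ↘ Spec (CommRingCat.of k))]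
    (hpb : IsPullback g (XK ↘ Spec (CommRingCat.of K)) (X ↘ Spec (CommRingCat.of k))
      (Spec.map (CommRingCat.ofHom (algebraMap k K)))) {L : X.Modules} (hL : PicF.IsInvertible L) :
    Curv2.deg K XK (pb g L) 1 = Curv2.deg k X L 1 := by
  have h1 := euler_sq hpb (TwistLib.isQCoh_of_isInvertible hL)
  have h2 := euler_sq hpb (F := Coh.structureModule X) QCohLib.isQCoh_unit
  have h3 := CurvLib.euler_congr (k := K) (KFlatLib.pullUnitIso g)
  rw [Curv2.deg, Curv2.deg, ← h1, ← h2, ← h3]

variable [IsProper (X ↘ Spec (CommRingCat.of k))] [Smooth (X ↘ Spec (CommRingCat.of k))] [IsIntegral X]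

/-- A smooth integral scheme over a separably closed field is geometrically integral. -/
theorem geometricallyIntegral_of_sepClosed [IsSepClosed k] :
    GeometricallyIntegral (X ↘ Spec (CommRingCat.of k)) := by
  let f := X ↘ Spec (CommRingCat.of k)
  haveI := AbSchLib.geometricallyReduced_of_smooth f
  haveI : GeometricallyIrreducible f := by
    refine Groth.Agent.S7596.result k X (dense_iff_inter_open.2 fun V hV hne => ?_)
    let V' : X.Opens := ⟨V, hV⟩
    obtain ⟨v, hv⟩ := hne
    haveI : Nonempty V'.toScheme := ⟨⟨v, hv⟩⟩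
    obtain ⟨w, hw⟩ := GenusZeroLib.exists_rational_point_of_smooth (V'.ι ≫ f)
    have hw' : (w ≫ V'.ι) ≫ f = 𝟙 _ := by rw [Category.assoc, hw]
    let p := IsLocalRing.closedPoint k
    refine ⟨(w ≫ V'.ι) p, (w p).2, ?_⟩
    have h1 := GenusZeroLib.finrank_residueField_rational (w ≫ V'.ι) hw' p
    letI : Algebra k (X.residueField ((w ≫ V'.ι) p)) := Curv2.resAlgebra k X _
    haveI : Module.Finite k (X.residueField ((w ≫ V'.ι) p)) := Module.finite_of_finrank_eq_succ h1
    exact fun a => by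
      obtain ⟨c, hc⟩ := exists_smul_eq_of_finrank_eq_one h1 (one_ne_zero (α := X.residueField ((w ≫ V'.ι) p))) a
      exact ⟨c, (Algebra.algebraMap_eq_smul_one c).trans hc⟩
  exact GeometricallyIntegral.of_geometricallyReduced_of_geometricallyIrreducible f

variable (hpb : IsPullback g (XK ↘ Spec (CommRingCat.of K)) (X ↘ Spec (CommRingCat.of k))
      (Spec.map (CommRingCat.ofHom (algebraMap k K))))

include hpb in
omit [IsProper (X ↘ Spec (CommRingCat.of k))] [IsIntegral X] [Smooth (X ↘ Spec (CommRingCat.of k))] in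
theorem isIntegral_sq [GeometricallyIntegral (X ↘ Spec (CommRingCat.of k))] [IsProper (X ↘ Spec (CommRingCat.of k))] :
    IsIntegral XK := by
  haveI := VeryAmpleLib.isIntegral_bc k X K
  haveI : Nonempty XK := ⟨hpb.isoPullback.inv (genericPoint (Curv2.bc k X K))⟩
  exact isIntegral_of_isOpenImmersion hpb.isoPullback.hom

include hpb in
omit [Smooth (X ↘ Spec (CommRingCat.of k))] in
theorem dim_sq [GeometricallyIntegral (X ↘ Spec (CommRingCat.of k))] :
    topologicalKrullDim ↥XK = topologicalKrullDim ↥X := by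
  haveI := VeryAmpleLib.isIntegral_bc k X K
  rw [IsHomeomorph.topologicalKrullDim_eq _ hpb.isoPullback.hom.homeomorph.isHomeomorph]
  exact VeryAmpleLib.dim_bc k X K

include hpb in
/-- One step down. -/
theorem exists_step [IsSepClosed k] [IsIntegral XK] [IsProper (XK ↘ Spec (CommRingCat.of K))]
    (hdim : topologicalKrullDim X = 1) (hdimK : topologicalKrullDim XK = 1) {L : XK.Modules} (hL : PicF.IsInvertible L)
    (hpos : 0 < Module.finrank K (Coh.HH XK L 0)) (h1 : Module.finrank K (Coh.HH XK L 1) = 0) :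
    ∃ N : X.Modules, PicF.IsInvertible N ∧
      Module.finrank K (Coh.HH XK (CohB1.tensorMod L (pb g N)) 0) + 1 = Module.finrank K (Coh.HH XK L 0) ∧
      Module.finrank K (Coh.HH XK (CohB1.tensorMod L (pb g N)) 1) = 0 := by
  classical
  let P : XK.Modules := pb g (Coh.structureModule X)
  let M := CohB1.tensorMod L P
  let e : M ≅ L := HilbPolyLib.congrRight L (KFlatLib.pullUnitIso g) ≪≫ KFlatLib.tensSwap (Coh.structureModule XK) L ≪≫ KFlatLib.tensUnitIso L
  have hM : PicF.IsInvertible M := HilbPolyLib.isInvertible_of_iso e.symm hL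
  have hM0 : Module.finrank K (Coh.HH XK M 0) = Module.finrank K (Coh.HH XK L 0) := (CurvLib.hIso (k := K) e 0).finrank_eq
  have hM1 : Module.finrank K (Coh.HH XK M 1) = 0 := ((CurvLib.hIso (k := K) e 1).finrank_eq).trans h1
  letI := GenusZeroLib.kmod K M
  haveI : Nontrivial Γ(M, ⊤) := by
    apply Module.nontrivial_of_finrank_pos (R := K)
    rw [← (GenusZeroLib.e0k K M).finrank_eq, hM0]
    exact hpos
  obtain ⟨σ, hσ⟩ := exists_ne (0 : Γ(M, ⊤))
  -- the finite set of bad points
  let V := TwistLib.genSet hM σ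
  have hfin : ((V : Set XK)ᶜ).Finite := (GenusZeroLib.finite_compl_genSet K hdimK hM hσ).1
  let Fs : Set X := {x | IsClosed ({x} : Set X)} ∩ g '' (V : Set XK)ᶜ
  have hFs : IsClosed Fs := by
    rw [← Set.biUnion_of_singleton Fs]
    exact ((hfin.image g).subset Set.inter_subset_right).isClosed_biUnion fun x hx => hx.1
  let V₀ : X.Opens := ⟨Fsᶜ, hFs.isOpen_compl⟩
  have hη : genericPoint X ∈ V₀ := fun hc => by
    have h := (IsClosed.closure_eq hc.1).symm.trans (genericPoint_spec X).def
    have h0 : topologicalKrullDim X ≤ 0 := by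
      haveI : Subsingleton X := ⟨fun a b => by
        have ha : a ∈ ({genericPoint X} : Set X) := h ▸ trivial
        have hb : b ∈ ({genericPoint X} : Set X) := h ▸ trivial
        exact ha.trans hb.symm⟩
      exact topologicalKrullDim_zero_of_discreteTopology _
    rw [hdim] at h0
    exact absurd h0 (by norm_num)
  haveI : Nonempty V₀.toScheme := ⟨⟨_, hη⟩⟩
  obtain ⟨w, hw⟩ := GenusZeroLib.exists_rational_point_of_smooth (V₀.ι ≫ (X ↘ Spec (CommRingCat.of k)))
  let wX := w ≫ V₀.ι
  have hw' : wX ≫ (X ↘ Spec (CommRingCat.of k)) = 𝟙 _ := by rw [Category.assoc, hw]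
  let p := IsLocalRing.closedPoint k
  let x := wX p
  have hxc : IsClosed ({x} : Set X) := GenusZeroLib.isClosed_rational wX hw' p
  haveI := CurveVBLib.regular_stalk (k := k) x
  haveI := GenusZeroLib.isDiscreteValuationRing_stalk k hdim hxc (NormalLib.isIntegrallyClosed_of_isRegularLocalRing _)
  have hr := GenusZeroLib.finrank_residueField_rational wX hw' p
  let wK : Spec (CommRingCat.of K) ⟶ XK := hpb.lift (Spec.map (CommRingCat.ofHom (algebraMap k K)) ≫ wX) (𝟙 _)
    (by rw [Category.assoc, hw', Category.comp_id, Category.id_comp])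
  let y := wK (IsLocalRing.closedPoint K)
  have hgy : g y = x := by
    show (wK ≫ g) _ = _
    rw [show wK ≫ g = _ from hpb.lift_fst _ _ _]
    exact congrArg wX (Subsingleton.elim (α := PrimeSpectrum k) _ _)
  have hyV : y ∈ V := by
    by_contra h
    exact (w p).2 ⟨hxc, y, h, hgy⟩
  -- the ideal of the point
  obtain ⟨N, q, hN, hq, hdeg, hrange⟩ := GenusZeroLib.exists_twist_down (k := k) hdim hxc
    (M := Coh.structureModule X) CurvLib.isInvertible_structureModule
  rw [hr] at hdeg
  have hd0 : Curv2.deg k X (Coh.structureModule X) 1 = 0 := by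
    simp [Curv2.deg]
  obtain ⟨W, n, hxW, hn⟩ := TwistLib.exists_genOn hN x
  obtain ⟨c, hc⟩ := (AmpleLib.one_genOn (X := X) W W le_rfl).2 (q.app W n)
  have hc' : q.app W n = c • (1 : Γ(X, W)) := by
    rw [← hc]
    simp only [AmpleLib.res_refl]
    rfl
  have hcx : x ∉ X.basicOpen c := fun h => by
    have := (hrange W (q.app W n)).1 ⟨n, rfl⟩ hxW
    rw [hc'] at this
    exact this ((AmpleLib.genAt_smul_iff c _ hxW ((AmpleLib.one_genOn (X := X) W).genAt hxW)).2 h)
  refine ⟨N, hN, ?_⟩
  let ψ : pb g N ⟶ P := (Scheme.Modules.pullback g).map q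
  have hxWy : g y ∈ W := by rw [hgy]; exact hxW
  have hψ : ψ.app (g ⁻¹ᵁ W) (puSec g n) = g.app W c • puSec g (M := Coh.structureModule X) (1 : Γ(X, W)) := by
    rw [KFlatLib.puSec_natural, hc']
    exact KFlatLib.puSec_smul g c _
  have ho : GenAt P (puSec g (M := Coh.structureModule X) (1 : Γ(X, W))) (show y ∈ g ⁻¹ᵁ W from hxWy) :=
    TwistLib.GenAt.puSec g ((AmpleLib.one_genOn (X := X) W).genAt hxWy)
  have hnK : GenOn (pb g N) (puSec g n) :=
    TwistLib.genOn_of_genAt fun z hz => TwistLib.GenAt.puSec g (hn.genAt hz)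
  have hcy : y ∉ XK.basicOpen (g.app W c) := fun h => by
    rw [← Scheme.preimage_basicOpen] at h
    exact hcx (hgy ▸ h)
  have hbad := not_genAt_whisker L hL ψ hxWy hnK ho hcy hψ
  let φ : CohB1.tensorMod L (pb g N) ⟶ M := ((DCoh.tensorBi (X := XK)).obj L).map ψ
  have hN' : PicF.IsInvertible (pb g N) := AmpleDevLib.isInvertible_pb g hN
  have hT : PicF.IsInvertible (CohB1.tensorMod L (pb g N)) := HilbPolyLib.isInvertible_tensor hL hN'
  -- nonvanishing
  have hφ : φ ≠ 0 := fun h0 => by
    -- `c ≠ 0`, so its pull-back is nonzero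
    have hq' : Mono q := CurvLib.mono_of_ne_zero hN CurvLib.isInvertible_structureModule hq
    have hc0 : c ≠ 0 := fun h => by
      have hn0 : n = 0 := QCohLib.app_injective_of_mono q W (by rw [hc', h, zero_smul, map_zero]; rfl)
      exact genAt_ne_zero (hn.genAt hxW) hn0
    haveI : Surjective g := MorphismProperty.of_isPullback hpb.flip inferInstance
    have hgc : XK.basicOpen (g.app W c) ≠ ⊥ := fun h => by
      obtain ⟨z, hz⟩ : (X.basicOpen c : Set X).Nonempty :=
        (Opens.ne_bot_iff_nonempty _).1 fun h' => hc0 ((basicOpen_eq_bot_iff c).1 h')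
      obtain ⟨z', rfl⟩ := g.surjective z
      rw [← Scheme.preimage_basicOpen] at h
      exact (h ▸ (show z' ∈ g ⁻¹ᵁ X.basicOpen c from hz) : z' ∈ (⊥ : XK.Opens))
    obtain ⟨U, e₁, hyU, he₁⟩ := TwistLib.exists_genOn hL (genericPoint XK)
    have hζ : genericPoint XK ∈ g ⁻¹ᵁ W :=
      ((genericPoint_spec XK).mem_open_set_iff (g ⁻¹ᵁ W).2).2 ⟨y, trivial, hxWy⟩
    have hζ' : genericPoint XK ∈ XK.basicOpen (g.app W c) :=
      ((genericPoint_spec XK).mem_open_set_iff (XK.basicOpen (g.app W c)).2).2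
        ⟨_, trivial, ((Opens.ne_bot_iff_nonempty _).1 hgc).some_mem⟩
    have hU' : genericPoint XK ∈ U ⊓ g ⁻¹ᵁ W := ⟨hyU, hζ⟩
    have hgen : GenAt M (shT (res L inf_le_left e₁)
        (res P inf_le_right (puSec g (M := Coh.structureModule X) (1 : Γ(X, W))))) hU' :=
      ((he₁.res inf_le_left).genAt hU').tensor ((AmpleLib.genAt_res _ _ hU').2
        (TwistLib.GenAt.puSec g ((AmpleLib.one_genOn (X := X) W).genAt hζ)))
    let c' : Γ(XK, U ⊓ g ⁻¹ᵁ W) := XK.presheaf.map (homOfLE (inf_le_right : U ⊓ g ⁻¹ᵁ W ≤ _)).op (g.app W c)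
    have h1' : φ.app (U ⊓ g ⁻¹ᵁ W) (shT (res L inf_le_left e₁) (res (pb g N) inf_le_right (puSec g n))) =
        c' • shT (res L inf_le_left e₁) (res P inf_le_right (puSec g (M := Coh.structureModule X) (1 : Γ(X, W)))) := by
      refine (KFlatLib.tensorBi_map₂_shTm L ψ _ _).trans ?_
      rw [← shT_smul, ← AmpleLib.res_smul, ← hψ]
      exact congrArg (shT (res L inf_le_left e₁))
        (PresheafOfModules.naturality_apply ψ.val (homOfLE (inf_le_right : U ⊓ g ⁻¹ᵁ W ≤ _)).op (puSec g n))
    have hu : genericPoint XK ∈ XK.basicOpen c' := by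
      rw [Scheme.basicOpen_res]; exact ⟨hU', hζ'⟩
    have h2 := (AmpleLib.genAt_smul_iff c' _ hU' hgen).2 hu
    rw [← h1', h0] at h2
    exact genAt_ne_zero h2 rfl
  have hd : Curv2.deg K XK (CohB1.tensorMod L (pb g N)) 1 = Curv2.deg K XK L 1 - 1 := by
    rw [GenusZeroLib.deg_tensor K hdimK hL hN', deg_sq hpb hN, hdeg, hd0]
    push_cast; ring
  haveI : Mono φ := CurvLib.mono_of_ne_zero hT hM hφ
  letI := GenusZeroLib.kmod K (CohB1.tensorMod L (pb g N))
  haveI := CurvLib.finite_HH (k := K) (CurvLib.isCoh_of_isInvertible hM) 0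
  haveI : Module.Finite K Γ(M, ⊤) := Module.Finite.equiv (GenusZeroLib.e0k K M)
  let f : Γ(CohB1.tensorMod L (pb g N), ⊤) →ₗ[K] Γ(M, ⊤) :=
    { toFun := fun t => φ.app ⊤ t
      map_add' := fun a b => map_add (φ.app ⊤).hom a b
      map_smul' := fun a t => Scheme.Modules.Hom.app_smul φ (GenusZeroLib.ρ K (X := XK) a) t }
  have hf : Function.Injective f := QCohLib.app_injective_of_mono φ ⊤
  have hlt : Module.finrank K (Coh.HH XK (CohB1.tensorMod L (pb g N)) 0) < Module.finrank K (Coh.HH XK M 0) := by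
    rw [(GenusZeroLib.e0k K _).finrank_eq, (GenusZeroLib.e0k K M).finrank_eq, ← LinearMap.finrank_range_of_inj hf]
    refine Submodule.finrank_lt fun htop => ?_
    obtain ⟨t, ht⟩ := LinearMap.range_eq_top.mp htop σ
    have h : GenAt M (φ.app ⊤ t) (show y ∈ (⊤ : XK.Opens) from trivial) :=
      (show φ.app ⊤ t = σ from ht) ▸ (show GenAt M σ (show y ∈ (⊤ : XK.Opens) from trivial) from hyV)
    exact hbad t h
  have e1 := CurvLib.euler_curve (k := K) hdimK L
  have e2 := CurvLib.euler_curve (k := K) hdimK (CohB1.tensorMod L (pb g N))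
  simp only [Curv2.deg] at hd
  push_cast at hd
  constructor <;> omega

end CurveBCLib
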